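import Groth.Agent.Lib.FEtLimit25.Basic
import Groth.Agent.Lib.AlgColimH13.Spec
import Mathlib.AlgebraicGeometry.Morphisms.Etale
import Mathlib.RingTheory.Etale.Field
import Mathlib.FieldTheory.SeparableClosure

/-!
# Finite étale covers of `X ⊗ K`, `K` algebraic over `k`, come from finite subextensions
-/

set_option autoImplicit false
set_option linter.style.haveILetI false
set_option backward.isDefEq.respectTransparency.types false

universe u

open CategoryTheory CategoryTheory.Limits AlgebraicGeometry

namespace Groth.Agent.FEtLimit25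

open Groth.Agent.AlgColimH13 in
/-- Stages of the separable closure map to finite subextensions. -/
theorem exists_field_of_idx (k K : Type u) [Field k] [Field K] [Algebra k K] [Algebra.IsIntegral k K] (i : Idx k K) :
    ∃ (L : IntermediateField k K) (_ : FiniteDimensional k L) (r : i.Ring →ₐ[k] L), ∀ x, (r x : K) = i.toB x := by
  let L := IntermediateField.adjoin k (i.gens : Set K)
  haveI : Finite (i.gens : Set K) := i.gens.finite_toSet.to_subtype
  haveI : FiniteDimensional k L := IntermediateField.finiteDimensional_adjoin fun x _ => Algebra.IsIntegral.isIntegral x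
  have h : ∀ x, i.toB x ∈ L.toSubalgebra := by
    intro x
    obtain ⟨q, rfl⟩ := Ideal.Quotient.mk_surjective x
    rw [Idx.toB_mk]
    induction q using MvPolynomial.induction_on with
    | C a => rw [MvPolynomial.algHom_C]; exact L.algebraMap_mem a
    | add p q hp hq => rw [map_add]; exact add_mem hp hq
    | mul_X p b hp =>
      rw [map_mul, Idx.evPol_X]
      exact mul_mem hp (IntermediateField.subset_adjoin k _ b.2)
  exact ⟨L, inferInstance, i.toB.codRestrict L.toSubalgebra h, fun x => rfl⟩

theorem exists_model_field (k K : Type u) [Field k] [Field K] [Algebra k K] [Algebra.IsIntegral k K]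
    {X : Scheme.{u}} (f : X ⟶ Spec (CommRingCat.of k)) [CompactSpace ↥X] [QuasiSeparatedSpace ↥X]
    {Ybar : Scheme.{u}} (g : Ybar ⟶ pullback f (Spec.map (CommRingCat.ofHom (algebraMap k K))))
    [IsFinite g] [Etale g] :
    ∃ (L : IntermediateField k K) (_ : FiniteDimensional k ↥L) (YL : Scheme.{u})
      (gL : YL ⟶ pullback f (Spec.map (CommRingCat.ofHom (algebraMap k ↥L)))) (_ : IsFinite gL) (_ : Etale gL)
      (c : pullback f (Spec.map (CommRingCat.ofHom (algebraMap k K))) ⟶ pullback f (Spec.map (CommRingCat.ofHom (algebraMap k ↥L)))),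
      c ≫ pullback.fst f (Spec.map (CommRingCat.ofHom (algebraMap k ↥L))) = pullback.fst f (Spec.map (CommRingCat.ofHom (algebraMap k K))) ∧
      c ≫ pullback.snd f (Spec.map (CommRingCat.ofHom (algebraMap k ↥L))) = pullback.snd f (Spec.map (CommRingCat.ofHom (algebraMap k K))) ≫ Spec.map (CommRingCat.ofHom (algebraMap ↥L K)) ∧
      ∃ e : Ybar ⟶ YL, IsPullback e g gL c := by
  let D : (AlgColimH13.Idx k K)ᵒᵖ ⥤ Scheme.{u} := (AlgColimH13.ringDiag k K).op ⋙ Scheme.Spec
  let t : D ⟶ (Functor.const _).obj (Spec (CommRingCat.of k)) :=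
    { app := fun i => Spec.map (AlgColimH13.str k K i.unop)
      naturality := fun i j a => by
        show Spec.map ((AlgColimH13.ringDiag k K).map a.unop) ≫ Spec.map (AlgColimH13.str k K j.unop) =
          Spec.map (AlgColimH13.str k K i.unop) ≫ 𝟙 _
        rw [← Spec.map_comp, AlgColimH13.str_map, Category.comp_id] }
  let c₀ : Cone D := { pt := Spec (CommRingCat.of K)
                       π := { app := fun i => Spec.map (AlgColimH13.proj k K i.unop)
                              naturality := fun i j a => by
                                show 𝟙 _ ≫ Spec.map (AlgColimH13.proj k K j.unop) =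
                                  Spec.map (AlgColimH13.proj k K i.unop) ≫ Spec.map ((AlgColimH13.ringDiag k K).map a.unop)
                                rw [Category.id_comp, ← Spec.map_comp, AlgColimH13.map_proj] } }
  have hc₀ : IsLimit c₀ := (IsLimit.equivIsoLimit (Cone.ext (Iso.refl _) fun i => (Category.id_comp _).symm))
    (isLimitOfPreserves Scheme.Spec (AlgColimH13.ringIsColimit k K).op)
  haveI : ∀ i, IsAffineHom (t.app i) := fun i => inferInstanceAs (IsAffineHom (Spec.map (AlgColimH13.str k K i.unop)))
  have hq : ∀ i, c₀.π.app i ≫ t.app i = Spec.map (CommRingCat.ofHom (algebraMap k K)) := fun i => by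
    show Spec.map _ ≫ Spec.map _ = _
    rw [← Spec.map_comp, AlgColimH13.str_proj]
  have hP := IsPullback.of_hasPullback f (Spec.map (CommRingCat.ofHom (algebraMap k K)))
  let E := Descend.pbDiagram D t f
  let e := Descend.pbCone D t f c₀ hq hP
  have he : IsLimit e := Descend.pbIsLimit D t f c₀ hq hP hc₀
  haveI : ∀ (i j : (AlgColimH13.Idx k K)ᵒᵖ) (a : i ⟶ j), IsAffineHom (E.map a) := fun i j a =>
    MorphismProperty.of_isPullback (P := @IsAffineHom) (Descend.pbMap_isPullback D t f a).flip
      (isAffineHom_of_isAffine (Spec.map ((AlgColimH13.ringDiag k K).map a.unop)))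
  haveI : ∀ i, CompactSpace (E.obj i) := fun i =>
    haveI : IsAffineHom (pullback.fst f (t.app i)) := MorphismProperty.pullback_fst _ _ inferInstance
    QuasiCompact.compactSpace_of_compactSpace (pullback.fst f (t.app i))
  haveI : ∀ i, QuasiSeparatedSpace (E.obj i) := fun i =>
    haveI : IsAffineHom (pullback.fst f (t.app i)) := MorphismProperty.pullback_fst _ _ inferInstance
    quasiSeparatedSpace_of_quasiSeparated (pullback.fst f (t.app i))
  let g' : Ybar ⟶ e.pt := g
  haveI : IsFinite g' := ‹IsFinite g›
  haveI : Etale g' := ‹Etale g›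
  obtain ⟨i, Pi, pi, q, h1, h2, h3, hsq⟩ := FEtLimit25.exists_model he g'
  haveI := h1; haveI := h2
  obtain ⟨L, hL, r, hr⟩ := exists_field_of_idx k K i.unop
  let sL := Spec.map (CommRingCat.ofHom (algebraMap k L))
  have hsL : sL = Spec.map (CommRingCat.ofHom r.toRingHom) ≫ t.app i := by
    show Spec.map _ = Spec.map _ ≫ Spec.map (AlgColimH13.str k K i.unop)
    rw [← Spec.map_comp]
    exact congrArg Spec.map (CommRingCat.hom_ext (RingHom.ext fun a => (r.commutes a).symm))
  let b : pullback f sL ⟶ E.obj i := pullback.lift (pullback.fst f sL)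
    (pullback.snd f sL ≫ Spec.map (CommRingCat.ofHom r.toRingHom)) (by
      exact (pullback.condition.trans (congrArg (pullback.snd f sL ≫ ·) hsL)).trans (Category.assoc _ _ _).symm)
  have hwc : pullback.fst f (Spec.map (CommRingCat.ofHom (algebraMap k K))) ≫ f =
      (pullback.snd f (Spec.map (CommRingCat.ofHom (algebraMap k K))) ≫
        Spec.map (CommRingCat.ofHom (algebraMap L K))) ≫ sL := by
    rw [Category.assoc, pullback.condition, ← Spec.map_comp]
    rfl
  let c : pullback f (Spec.map (CommRingCat.ofHom (algebraMap k K))) ⟶ pullback f sL := pullback.lift _ _ hwc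
  refine ⟨L, hL, pullback pi b, pullback.snd pi b, inferInstance, inferInstance, c,
    pullback.lift_fst _ _ _, pullback.lift_snd _ _ _, ?_⟩
  have hcb : c ≫ b = e.π.app i := by
    refine pullback.hom_ext ?_ ?_
    · exact ((Category.assoc _ _ _).trans ((congrArg (c ≫ ·) (pullback.lift_fst _ _ _)).trans
        (pullback.lift_fst _ _ _))).trans (Descend.pbCone_fst D t f c₀ hq hP i).symm
    · refine ((Category.assoc _ _ _).trans ((congrArg (c ≫ ·) (pullback.lift_snd _ _ _)).trans ?_)).trans
        (Descend.pbCone_snd D t f c₀ hq hP i).symm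
      refine (pullback.lift_snd_assoc _ _ _ _).trans ?_
      rw [Category.assoc, ← Spec.map_comp]
      exact congrArg (fun q => pullback.snd f _ ≫ Spec.map q) (CommRingCat.hom_ext (RingHom.ext hr))
  let m : Ybar ⟶ pullback pi b := pullback.lift q (g ≫ c) (by rw [Category.assoc, hcb]; exact hsq.w)
  refine ⟨m, IsPullback.of_right ?_ (pullback.lift_snd _ _ _) (IsPullback.of_hasPullback pi b)⟩
  rw [pullback.lift_fst, hcb]
  exact hsq

/-- A morphism out of `X ⊗ K` to a finitely presented `X`-scheme comes from a finite subextension. -/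
theorem exists_hom_field (k K : Type u) [Field k] [Field K] [Algebra k K] [Algebra.IsIntegral k K]
    {X : Scheme.{u}} (f : X ⟶ Spec (CommRingCat.of k)) [CompactSpace ↥X] [QuasiSeparatedSpace ↥X]
    {W : Scheme.{u}} (w : W ⟶ X) [LocallyOfFinitePresentation w]
    (σ : pullback f (Spec.map (CommRingCat.ofHom (algebraMap k K))) ⟶ W)
    (hσ : σ ≫ w = pullback.fst f (Spec.map (CommRingCat.ofHom (algebraMap k K)))) :
    ∃ (L : IntermediateField k K) (_ : FiniteDimensional k ↥L)
      (τ : pullback f (Spec.map (CommRingCat.ofHom (algebraMap k ↥L))) ⟶ W)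
      (c : pullback f (Spec.map (CommRingCat.ofHom (algebraMap k K))) ⟶ pullback f (Spec.map (CommRingCat.ofHom (algebraMap k ↥L)))),
      c ≫ pullback.fst f (Spec.map (CommRingCat.ofHom (algebraMap k ↥L))) = pullback.fst f (Spec.map (CommRingCat.ofHom (algebraMap k K))) ∧
      τ ≫ w = pullback.fst f (Spec.map (CommRingCat.ofHom (algebraMap k ↥L))) ∧ c ≫ τ = σ := by
  let D : (AlgColimH13.Idx k K)ᵒᵖ ⥤ Scheme.{u} := (AlgColimH13.ringDiag k K).op ⋙ Scheme.Spec
  let t : D ⟶ (Functor.const _).obj (Spec (CommRingCat.of k)) :=
    { app := fun i => Spec.map (AlgColimH13.str k K i.unop)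
      naturality := fun i j a => by
        show Spec.map ((AlgColimH13.ringDiag k K).map a.unop) ≫ Spec.map (AlgColimH13.str k K j.unop) =
          Spec.map (AlgColimH13.str k K i.unop) ≫ 𝟙 _
        rw [← Spec.map_comp, AlgColimH13.str_map, Category.comp_id] }
  let c₀ : Cone D := { pt := Spec (CommRingCat.of K)
                       π := { app := fun i => Spec.map (AlgColimH13.proj k K i.unop)
                              naturality := fun i j a => by
                                show 𝟙 _ ≫ Spec.map (AlgColimH13.proj k K j.unop) =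
                                  Spec.map (AlgColimH13.proj k K i.unop) ≫ Spec.map ((AlgColimH13.ringDiag k K).map a.unop)
                                rw [Category.id_comp, ← Spec.map_comp, AlgColimH13.map_proj] } }
  have hc₀ : IsLimit c₀ := (IsLimit.equivIsoLimit (Cone.ext (Iso.refl _) fun i => (Category.id_comp _).symm))
    (isLimitOfPreserves Scheme.Spec (AlgColimH13.ringIsColimit k K).op)
  haveI : ∀ i, IsAffineHom (t.app i) := fun i => inferInstanceAs (IsAffineHom (Spec.map (AlgColimH13.str k K i.unop)))
  have hq : ∀ i, c₀.π.app i ≫ t.app i = Spec.map (CommRingCat.ofHom (algebraMap k K)) := fun i => by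
    show Spec.map _ ≫ Spec.map _ = _
    rw [← Spec.map_comp, AlgColimH13.str_proj]
  have hP := IsPullback.of_hasPullback f (Spec.map (CommRingCat.ofHom (algebraMap k K)))
  let E := Descend.pbDiagram D t f
  let e := Descend.pbCone D t f c₀ hq hP
  have he : IsLimit e := Descend.pbIsLimit D t f c₀ hq hP hc₀
  haveI : ∀ (i j : (AlgColimH13.Idx k K)ᵒᵖ) (a : i ⟶ j), IsAffineHom (E.map a) := fun i j a =>
    MorphismProperty.of_isPullback (P := @IsAffineHom) (Descend.pbMap_isPullback D t f a).flip
      (isAffineHom_of_isAffine (Spec.map ((AlgColimH13.ringDiag k K).map a.unop)))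
  haveI : ∀ i, CompactSpace (E.obj i) := fun i =>
    haveI : IsAffineHom (pullback.fst f (t.app i)) := MorphismProperty.pullback_fst _ _ inferInstance
    QuasiCompact.compactSpace_of_compactSpace (pullback.fst f (t.app i))
  haveI : ∀ i, QuasiSeparatedSpace (E.obj i) := fun i =>
    haveI : IsAffineHom (pullback.fst f (t.app i)) := MorphismProperty.pullback_fst _ _ inferInstance
    quasiSeparatedSpace_of_quasiSeparated (pullback.fst f (t.app i))
  obtain ⟨i, s, hs, hsw⟩ := Scheme.exists_π_app_comp_eq_of_locallyOfFinitePresentation E (Descend.pbFst D t f) w e he σ (by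
    ext j
    show e.π.app j ≫ pullback.fst f (t.app j) = σ ≫ w
    rw [hσ]
    exact Descend.pbCone_fst D t f c₀ hq hP j)
  obtain ⟨L, hL, r, hr⟩ := exists_field_of_idx k K i.unop
  let sL := Spec.map (CommRingCat.ofHom (algebraMap k L))
  have hsL : sL = Spec.map (CommRingCat.ofHom r.toRingHom) ≫ t.app i := by
    show Spec.map _ = Spec.map _ ≫ Spec.map (AlgColimH13.str k K i.unop)
    rw [← Spec.map_comp]
    exact congrArg Spec.map (CommRingCat.hom_ext (RingHom.ext fun a => (r.commutes a).symm))
  let b : pullback f sL ⟶ E.obj i := pullback.lift (pullback.fst f sL)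
    (pullback.snd f sL ≫ Spec.map (CommRingCat.ofHom r.toRingHom)) (by
      exact (pullback.condition.trans (congrArg (pullback.snd f sL ≫ ·) hsL)).trans (Category.assoc _ _ _).symm)
  have hwc : pullback.fst f (Spec.map (CommRingCat.ofHom (algebraMap k K))) ≫ f =
      (pullback.snd f (Spec.map (CommRingCat.ofHom (algebraMap k K))) ≫
        Spec.map (CommRingCat.ofHom (algebraMap L K))) ≫ sL := by
    rw [Category.assoc, pullback.condition, ← Spec.map_comp]
    rfl
  let c : pullback f (Spec.map (CommRingCat.ofHom (algebraMap k K))) ⟶ pullback f sL := pullback.lift _ _ hwc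
  have hcb : c ≫ b = e.π.app i := by
    refine pullback.hom_ext ?_ ?_
    · exact ((Category.assoc _ _ _).trans ((congrArg (c ≫ ·) (pullback.lift_fst _ _ _)).trans
        (pullback.lift_fst _ _ _))).trans (Descend.pbCone_fst D t f c₀ hq hP i).symm
    · refine ((Category.assoc _ _ _).trans ((congrArg (c ≫ ·) (pullback.lift_snd _ _ _)).trans ?_)).trans
        (Descend.pbCone_snd D t f c₀ hq hP i).symm
      refine (pullback.lift_snd_assoc _ _ _ _).trans ?_
      rw [Category.assoc, ← Spec.map_comp]
      exact congrArg (fun q => pullback.snd f _ ≫ Spec.map q) (CommRingCat.hom_ext (RingHom.ext hr))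
  refine ⟨L, hL, b ≫ s, c, pullback.lift_fst _ _ _, ?_, ?_⟩
  · exact (Category.assoc _ _ _).trans ((congrArg (b ≫ ·) hsw).trans (pullback.lift_fst _ _ _))
  · exact (Category.assoc _ _ _).symm.trans ((congrArg (· ≫ s) hcb).trans hs)

/-- `Spec` of a finite separable field extension is finite étale. -/
theorem isFinite_etale_of_separable (k L : Type u) [Field k] [Field L] [Algebra k L] [FiniteDimensional k L]
    [Algebra.IsSeparable k L] :
    IsFinite (Spec.map (CommRingCat.ofHom (algebraMap k L))) ∧
      Etale (Spec.map (CommRingCat.ofHom (algebraMap k L))) := by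
  haveI : Algebra.FormallyEtale k L := Algebra.FormallyEtale.of_isSeparable k L
  haveI : Algebra.FinitePresentation k L := Algebra.FinitePresentation.of_finiteType.1 inferInstance
  haveI : Algebra.Etale k L := ⟨inferInstance, inferInstance⟩
  exact ⟨by rw [IsFinite.SpecMap_iff]; exact RingHom.finite_algebraMap.2 inferInstance,
    by rw [HasRingHomProperty.Spec_iff (P := @Etale)]; exact RingHom.etale_algebraMap.2 inferInstance⟩

/-- Over a finite unramified base change, the relative product is open and closed in the product. -/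
theorem isOpenImmersion_mapDesc {A B T S : Scheme.{u}} (a : A ⟶ T) (b : B ⟶ T) (s : T ⟶ S) [IsFinite s] [Etale s] :
    IsOpenImmersion (pullback.mapDesc a b s) ∧ IsClosedImmersion (pullback.mapDesc a b s) :=
  ⟨MorphismProperty.of_isPullback (P := @IsOpenImmersion) (pullback_map_diagonal_isPullback a b s)
    (inferInstance : IsOpenImmersion (pullback.diagonal s)), inferInstance⟩

end Groth.Agent.FEtLimit25
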