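import Groth.Agent.Lib.FEtEq25.Galois

/-!
# Connected covers are connected objects
-/

set_option autoImplicit false
set_option linter.style.haveILetI false
set_option backward.isDefEq.respectTransparency.types false

universe u

open CategoryTheory CategoryTheory.Limits AlgebraicGeometry

namespace Groth.Agent.FEtLimit25

theorem nonempty_isInitial_of_isEmpty {X : Scheme.{u}} (Y : FEt.Cat X) [IsEmpty Y.left] : Nonempty (IsInitial Y) :=
  let h : IsInitial Y.left := isInitialOfIsEmpty
  ⟨IsInitial.ofUniqueHom (fun Z => MorphismProperty.Over.homMk (h.to Z.left) (h.hom_ext _ _))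
    (fun Z m => by ext : 1; exact h.hom_ext _ _)⟩

theorem isConnected_of_connectedSpace {X : Scheme.{u}} (Y : FEt.Cat X) [ConnectedSpace Y.left] :
    PreGaloisCategory.IsConnected Y where
  notInitial h := by
    let φ : Y ⟶ FEtEq25.empty X := h.to _
    exact isEmptyElim (show ↥(∅ : Scheme.{u}) from φ.left (Classical.arbitrary _))
  noTrivialComponent Z i _ hZ := by
    have : Nonempty Z.left := by
      by_contra hne
      haveI : IsEmpty Z.left := not_nonempty_iff.1 hne
      exact hZ (nonempty_isInitial_of_isEmpty Z).some
    have : IsClosedImmersion i.left :=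
      (IsClosedImmersion.iff_isFinite_and_mono i.left).2 ⟨inferInstance, inferInstance⟩
    have : UniversallyInjective i.left := inferInstance
    have : IsOpenImmersion i.left := Groth.Agent.S3694.result i.left
    have : Surjective i.left := ⟨fun y => (Set.eq_univ_iff_forall.1 (IsClopen.eq_univ
      ⟨i.left.isClosedEmbedding.isClosed_range, i.left.isOpenEmbedding.isOpen_range⟩ (Set.range_nonempty _))) y⟩
    have : IsIso i.left :=
      (isIso_iff_isOpenImmersion_and_surjective _).2 ⟨inferInstance, inferInstance⟩
    let e : Z ≅ Y := MorphismProperty.Over.isoMk (asIso i.left) (FEtEq25.w i)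
    have he : e.hom = i := by ext; rfl
    rw [← he]; infer_instance

end Groth.Agent.FEtLimit25
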