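import Groth.Agent.S0267
import Mathlib.CategoryTheory.Galois.Decomposition

/-!
# A connected object dominated from the image of a fully faithful exact functor is in the image
-/

set_option autoImplicit false
set_option linter.style.haveILetI false

universe u v

open CategoryTheory CategoryTheory.Limits CategoryTheory.PreGaloisCategory

namespace Groth.Agent.FEtLimit25

theorem mem_essImage_of_dominated {C : Type u} [Category.{v} C] [GaloisCategory C] [HasCoequalizers C]
    {D : Type u} [Category.{v} D] [GaloisCategory D]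
    (H : C ⥤ D) [PreservesFiniteLimits H] [PreservesFiniteColimits H] (hH : H.Full ∧ H.Faithful)
    (F' : D ⥤ FintypeCat.{v}) [FiberFunctor F'] {X' : D} [IsConnected X'] {V : C} (m : H.obj V ⟶ X')
    (v₀ : F'.obj (H.obj V)) : H.essImage X' := by
  haveI := hH.1
  haveI := hH.2
  have hconn := (Groth.Agent.S0267.result H).1 hH
  haveI : PreservesFiniteLimits (H ⋙ F') := comp_preservesFiniteLimits H F'
  haveI : PreservesColimitsOfShape (Discrete WalkingPair) (H ⋙ F') := comp_preservesColimitsOfShape H F'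
  let F := GaloisCategory.getFiberFunctor C
  obtain ⟨e⟩ := Pi1Cat.nonempty_iso F (H ⋙ F') (fun X hX => by
    obtain ⟨hi⟩ := (initial_iff_fiber_empty F' (H.obj X)).2 hX
    by_contra hne
    rw [initial_iff_fiber_empty F, not_isEmpty_iff] at hne
    haveI := Pi1Cat.isConnected_terminal F
    haveI : Epi (terminal.from X) := epi_of_nonempty_of_isConnected F (terminal.from X)
    haveI : Epi (H.map (terminal.from X)) := inferInstance
    obtain ⟨t⟩ := (Pi1Cat.uniqueTerminal F').instInhabited
    obtain ⟨x, -⟩ := surjective_on_fiber_of_epi F' (H.map (terminal.from X))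
      (F'.map (PreservesTerminal.iso H).inv t)
    exact hX.false x)
  haveI : FiberFunctor (H ⋙ F') := Pi1Cat.fiberFunctor_of_iso F e
  obtain ⟨A, g, a, hA, hga⟩ := exists_hom_from_galois_of_fiber (H ⋙ F') V v₀
  haveI := hA
  haveI := hconn A inferInstance
  let m₀ : H.obj A ⟶ X' := H.map g ≫ m
  let I := {σ : Aut A // H.map σ.hom ≫ m₀ = m₀}
  haveI : Finite I := inferInstance
  let p : (∐ fun _ : I => A) ⟶ A := Sigma.desc fun σ => σ.1.hom
  let q : (∐ fun _ : I => A) ⟶ A := Sigma.desc fun _ => 𝟙 A
  have hpq : H.map p ≫ m₀ = H.map q ≫ m₀ := by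
    refine (isColimitOfPreserves H (coproductIsCoproduct (fun _ : I => A))).hom_ext fun ⟨σ⟩ => ?_
    show H.map (Sigma.ι _ σ) ≫ H.map p ≫ m₀ = H.map (Sigma.ι _ σ) ≫ H.map q ≫ m₀
    calc H.map (Sigma.ι _ σ) ≫ H.map p ≫ m₀ = H.map σ.1.hom ≫ m₀ := by
          rw [← Functor.map_comp_assoc, Sigma.ι_desc]
      _ = m₀ := σ.2
      _ = _ := by rw [← Functor.map_comp_assoc, Sigma.ι_desc, CategoryTheory.Functor.map_id, Category.id_comp]
  let hc := isColimitCoforkMapOfIsColimit H (coequalizer.condition p q) (coequalizerIsCoequalizer p q)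
  obtain ⟨φ, hφ⟩ : {φ : H.obj (coequalizer p q) ⟶ X' // H.map (coequalizer.π p q) ≫ φ = m₀} :=
    Cofork.IsColimit.desc' hc m₀ hpq
  have hφ' : H.map (coequalizer.π p q) ≫ φ = m₀ := hφ
  haveI : Nonempty (F'.obj (H.obj (coequalizer p q))) := by
    obtain ⟨z⟩ := nonempty_fiber_of_isConnected F' (H.obj A)
    exact ⟨F'.map (H.map (coequalizer.π p q)) z⟩
  have hsurj : Function.Surjective (F'.map φ) := surjective_of_nonempty_fiber_of_isConnected F' φ
  haveI : Epi (H.map (coequalizer.π p q)) := inferInstance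
  have hπ : Function.Surjective (F'.map (H.map (coequalizer.π p q))) := surjective_on_fiber_of_epi F' _
  have hinj : Function.Injective (F'.map φ) := by
    intro x y hxy
    obtain ⟨x, rfl⟩ := hπ x
    obtain ⟨y, rfl⟩ := hπ y
    obtain ⟨σ, hσ⟩ := MulAction.exists_smul_eq (Aut A) (α := (H ⋙ F').obj A) x y
    have hσy : F'.map (H.map σ.hom) x = y := hσ
    have hxy' : F'.map m₀ x = F'.map m₀ y := by
      rw [← hφ', Functor.map_comp]
      exact hxy
    have hI : H.map σ.hom ≫ m₀ = m₀ := by
      refine evaluation_injective_of_isConnected F' (H.obj A) X' x ?_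
      show F'.map (H.map σ.hom ≫ m₀) x = F'.map m₀ x
      rw [Functor.map_comp, ConcreteCategory.comp_apply, hσy, hxy']
    have hco : σ.hom ≫ coequalizer.π p q = coequalizer.π p q := by
      have := congrArg (Sigma.ι (fun _ : I => A) ⟨σ, hI⟩ ≫ ·) (coequalizer.condition p q)
      simpa [p, q] using this
    rw [← hσy, ← ConcreteCategory.comp_apply, ← Functor.map_comp, ← Functor.map_comp, hco]
  haveI : IsIso (F'.map φ) := by
    haveI : IsIso (FintypeCat.incl.map (F'.map φ)) := (isIso_iff_bijective _).2 ⟨hinj, hsurj⟩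
    exact isIso_of_reflects_iso _ FintypeCat.incl
  haveI : IsIso φ := isIso_of_reflects_iso φ F'
  exact ⟨coequalizer p q, ⟨asIso φ⟩⟩

end Groth.Agent.FEtLimit25
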