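import Groth.Agent.Lib.TopInv15.Bc
import Groth.Agent.Lib.AlgSpDecent.MonoPoint
import Groth.Agent.Lib.FEtEq25.Graph
import Groth.Prelude.Def_FEt
import Mathlib.AlgebraicGeometry.ZariskisMainTheorem

/-!
# Topological invariance of finite étale covers
-/

set_option autoImplicit false
set_option linter.style.haveILetI false
set_option backward.isDefEq.respectTransparency.types false

universe u

open CategoryTheory CategoryTheory.Limits AlgebraicGeometry

namespace Groth.Agent.FEtLimit25

theorem isSeparated_of_comp_surjective {V G Y : Scheme.{u}} (c : V ⟶ G) (a : G ⟶ Y) [Surjective c]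
    [IsIntegralHom c] [Etale a] [IsSeparated (c ≫ a)] : IsSeparated a := by
  refine ⟨?_⟩
  let m : pullback (c ≫ a) (c ≫ a) ⟶ pullback a a :=
    pullback.map _ _ _ _ c c (𝟙 Y) (by simp) (by simp)
  haveI : IsIntegralHom m := MorphismProperty.pullbackMap (P := @IsIntegralHom)
    ‹IsIntegralHom c› ‹IsIntegralHom c› rfl rfl
  have e : c ≫ pullback.diagonal a = pullback.diagonal (c ≫ a) ≫ m := by
    apply pullback.hom_ext <;> simp [m, pullback.map, pullback.lift_fst, pullback.lift_snd]
  have hr : IsClosed (Set.range (pullback.diagonal a)) := by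
    have h1 : Set.range (c ≫ pullback.diagonal a) = Set.range (pullback.diagonal a) := by
      rw [Scheme.Hom.comp_base, TopCat.coe_comp, Set.range_comp, Set.range_eq_univ.2 c.surjective,
        Set.image_univ]
    rw [← h1, e, Scheme.Hom.comp_base, TopCat.coe_comp, Set.range_comp]
    exact m.isClosedMap _ (pullback.diagonal (c ≫ a)).isClosedEmbedding.isClosed_range
  exact IsClosedImmersion.of_isPreimmersion _ hr

/-- Finite étale covers descend along universal homeomorphisms. -/
theorem exists_finiteEtale_descend {X Y : Scheme.{u}} (f : X ⟶ Y) [IsIntegralHom f] [UniversallyInjective f]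
    [Surjective f] {V : Scheme.{u}} (g : V ⟶ X) [IsFinite g] [Etale g] :
    ∃ (G : Scheme.{u}) (a : G ⟶ Y) (c : V ⟶ G), IsFinite a ∧ Etale a ∧ IsPullback g c f a := by
  obtain ⟨G, a, c, ha, sq⟩ := TopInv15.exists_etale_scheme f g
  haveI := ha
  haveI : IsIntegralHom c := MorphismProperty.of_isPullback sq ‹IsIntegralHom f›
  haveI : Surjective c := MorphismProperty.of_isPullback sq ‹Surjective f›
  haveI : IsSeparated (c ≫ a) := by rw [← sq.w]; infer_instance
  haveI : UniversallyClosed (c ≫ a) := by rw [← sq.w]; infer_instance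
  haveI := isSeparated_of_comp_surjective c a
  haveI : UniversallyClosed a := UniversallyClosed.of_comp_surjective c a
  haveI : IsProper a := ⟨⟩
  haveI := AlgSpDecent.locallyQuasiFinite_of_etale a
  exact ⟨G, a, c, (IsFinite.iff_isProper_and_locallyQuasiFinite a).2 ⟨inferInstance, inferInstance⟩, ha, sq⟩

/-- Base change of finite étale covers along a universal homeomorphism is an equivalence. -/
theorem restrict_isEquivalence {X Y : Scheme.{u}} (f : X ⟶ Y) [IsIntegralHom f] [UniversallyInjective f]
    [Surjective f] (hff : (FEt.restrict f).Full ∧ (FEt.restrict f).Faithful) : (FEt.restrict f).IsEquivalence := by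
  obtain ⟨hfull, hfaith⟩ := hff
  refine { essSurj := ⟨fun V => ?_⟩ }
  let g : V.left ⟶ X := V.hom
  haveI : IsFinite g := V.prop.1
  haveI : Etale g := V.prop.2
  obtain ⟨G, a, c, h1, h2, sq⟩ := exists_finiteEtale_descend f g
  exact ⟨MorphismProperty.Over.mk ⊤ a ⟨h1, h2⟩,
    ⟨MorphismProperty.Over.isoMk sq.flip.isoPullback.symm sq.flip.isoPullback_inv_snd⟩⟩

end Groth.Agent.FEtLimit25
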