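import Groth.Agent.Lib.FEtEq25.Galois
import Groth.Agent.Lib.FEtLimit25.Field
import Mathlib.CategoryTheory.Galois.Equivalence
import Mathlib.CategoryTheory.Galois.IsFundamentalgroup
import Mathlib.FieldTheory.AbsoluteGaloisGroup
import Mathlib.FieldTheory.Galois.Profinite
import Mathlib.Topology.Algebra.MulAction

/-!
# The absolute Galois group is the fundamental group of the spectrum of a field
-/

set_option autoImplicit false
set_option linter.style.haveILetI false
set_option backward.isDefEq.respectTransparency.types false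

universe u

open CategoryTheory CategoryTheory.Limits AlgebraicGeometry
open scoped FintypeCatDiscrete

noncomputable section

namespace Groth.Agent.FEtLimit25

variable (K : Type u) [Field K]

local notation "Kb" => AlgebraicClosure K
local notation "G" => Field.absoluteGaloisGroup K

/-- Automorphisms fixing the separable closure are trivial. -/
theorem eq_of_eqOn_separableClosure (g h : Kb ≃ₐ[K] Kb) (e : ∀ x ∈ separableClosure K Kb, g x = h x) : g = h := by
  haveI := separableClosure.isPurelyInseparable K Kb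
  obtain ⟨q, hq⟩ := ExpChar.exists (separableClosure K Kb)
  haveI : ExpChar Kb q := expChar_of_injective_ringHom (algebraMap (separableClosure K Kb) Kb).injective q
  refine AlgEquiv.ext fun x => ?_
  obtain ⟨n, y, hy⟩ := IsPurelyInseparable.pow_mem (separableClosure K Kb) q x
  have h1 := e y y.2
  have h2 : (y : Kb) = x ^ q ^ n := hy
  rw [h2, map_pow, map_pow] at h1
  exact iterateFrobenius_inj Kb q n h1

instance isGalois_separableClosure : IsGalois K (separableClosure K Kb) := separableClosure.isGalois K Kb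

/-- The absolute Galois group is the Galois group of the separable closure. -/
theorem restrict_bijective : Function.Bijective
    (AlgEquiv.restrictNormalHom (F := K) (K₁ := Kb) (separableClosure K Kb)) := by
  refine ⟨fun g h e => eq_of_eqOn_separableClosure K g h fun x hx => ?_,
    AlgEquiv.restrictNormalHom_surjective _⟩
  have h1 := congrArg (fun s : separableClosure K Kb ≃ₐ[K] separableClosure K Kb => ((s ⟨x, hx⟩ : separableClosure K Kb) : Kb)) e
  exact ((AlgEquiv.restrictNormal_commutes g (separableClosure K Kb) ⟨x, hx⟩).symm.trans h1).trans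
    (AlgEquiv.restrictNormal_commutes h (separableClosure K Kb) ⟨x, hx⟩)

instance compactSpace_gal : CompactSpace (Kb ≃ₐ[K] Kb) := by
  let r := MulEquiv.ofBijective _ (restrict_bijective K)
  suffices hc : Continuous r.symm.toMonoidHom from r.symm.surjective.compactSpace hc
  refine continuous_of_continuousAt_one _ (continuousAt_def.mpr fun N hN => ?_)
  rw [map_one, krullTopology_mem_nhds_one_iff] at hN
  obtain ⟨E, hE, hEN⟩ := hN
  haveI := separableClosure.isPurelyInseparable K Kb
  obtain ⟨q, hq⟩ := ExpChar.exists (separableClosure K Kb)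
  haveI : ExpChar Kb q := expChar_of_injective_ringHom (algebraMap (separableClosure K Kb) Kb).injective q
  let b := Module.finBasis K E
  choose n y hy using fun i => IsPurelyInseparable.pow_mem (separableClosure K Kb) q (b i : Kb)
  let E' := IntermediateField.adjoin K (Set.range y)
  haveI : FiniteDimensional K E' :=
    IntermediateField.finiteDimensional_adjoin fun x _ => Algebra.IsIntegral.isIntegral x
  rw [krullTopology_mem_nhds_one_iff]
  refine ⟨E', inferInstance, fun s hs => hEN ?_⟩
  obtain ⟨g, rfl⟩ := r.surjective s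
  show (r.symm (r g)) ∈ (E.fixingSubgroup : Set (Kb ≃ₐ[K] Kb))
  rw [r.symm_apply_apply]
  refine (IntermediateField.mem_fixingSubgroup_iff _ _).2 fun x hx => ?_
  have hb : ∀ i, g (b i : Kb) = b i := fun i => by
    apply iterateFrobenius_inj Kb q (n i)
    have h1 : g (y i : Kb) = y i := (AlgEquiv.restrictNormal_commutes g (separableClosure K Kb) (y i)).symm.trans
      (congrArg Subtype.val ((IntermediateField.mem_fixingSubgroup_iff _ _).1 hs (y i)
        (IntermediateField.subset_adjoin K _ ⟨i, rfl⟩)))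
    have h2 : (y i : Kb) = (b i : Kb) ^ q ^ n i := hy i
    rw [h2, map_pow] at h1
    exact h1
  have hext : g.toAlgHom.toLinearMap.comp E.val.toLinearMap = E.val.toLinearMap := b.ext hb
  exact LinearMap.congr_fun hext ⟨x, hx⟩

instance compactSpace_absoluteGaloisGroup : CompactSpace G := compactSpace_gal K

/-- The standard geometric point. -/
abbrev geomPt : Spec (CommRingCat.of Kb) ⟶ Spec (CommRingCat.of K) :=
  Spec.map (CommRingCat.ofHom (algebraMap K Kb))

local notation "F" => FEtEq25.fiberFin (geomPt K)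

/-- The Galois action on geometric points. -/
def galSpec (g : Kb ≃ₐ[K] Kb) : Spec (CommRingCat.of Kb) ⟶ Spec (CommRingCat.of Kb) :=
  Spec.map (CommRingCat.ofHom g.toRingEquiv.toRingHom)

theorem galSpec_geomPt (g : Kb ≃ₐ[K] Kb) : galSpec K g ≫ geomPt K = geomPt K := by
  rw [galSpec, geomPt, ← Spec.map_comp]
  exact congrArg Spec.map (CommRingCat.hom_ext (RingHom.ext fun a => g.commutes a))

theorem galSpec_one : galSpec K 1 = 𝟙 _ := (congrArg Spec.map (CommRingCat.hom_ext (RingHom.ext fun _ => rfl))).trans (Spec.map_id _)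

theorem galSpec_mul (g h : Kb ≃ₐ[K] Kb) : galSpec K (g * h) = galSpec K g ≫ galSpec K h := by
  rw [galSpec, galSpec, galSpec, ← Spec.map_comp]
  exact congrArg Spec.map (CommRingCat.hom_ext (RingHom.ext fun _ => rfl))

instance mulActionFiber (Y : FEt.Cat (Spec (CommRingCat.of K))) : MulAction G (F |>.obj Y) where
  smul g s := (⟨galSpec K g ≫ s.1, by rw [Category.assoc, s.2, galSpec_geomPt]⟩ : FEt.fiberObj (geomPt K) Y)
  one_smul s := Subtype.ext ((congrArg (· ≫ s.1) (galSpec_one K)).trans (Category.id_comp _))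
  mul_smul g h s := Subtype.ext ((congrArg (· ≫ s.1) (galSpec_mul K g h)).trans (Category.assoc _ _ _))

theorem smul_val (Y : FEt.Cat (Spec (CommRingCat.of K))) (g : G) (s : F |>.obj Y) :
    (g • s).1 = galSpec K g ≫ s.1 := rfl

/-- A geometric point of an affine scheme as a ring map. -/
theorem exists_hom (Y : FEt.Cat (Spec (CommRingCat.of K))) :
    ∃ (R : CommRingCat.{u}) (e : Y.left ≅ Spec R) (ψ : CommRingCat.of K ⟶ R), ψ.hom.Finite ∧ e.hom ≫ Spec.map ψ = Y.hom := by
  let g : Y.left ⟶ Spec (CommRingCat.of K) := Y.hom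
  haveI : IsFinite g := Y.prop.1
  haveI : IsAffine Y.left := isAffine_of_isAffineHom g
  refine ⟨_, Y.left.isoSpec, Spec.preimage (Y.left.isoSpec.inv ≫ g), ?_, ?_⟩
  · rw [← IsFinite.SpecMap_iff, Spec.map_preimage]
    infer_instance
  · rw [Spec.map_preimage, Iso.hom_inv_id_assoc]

theorem stabilizer_isOpen' (Y : FEt.Cat (Spec (CommRingCat.of K))) (s : F |>.obj Y) :
    IsOpen (MulAction.stabilizer G s : Set G) := by
  obtain ⟨R, e, ψ, hψ, he⟩ := exists_hom K Y
  let φ := Spec.preimage (s.1 ≫ e.hom)
  have hφ : ψ ≫ φ = CommRingCat.ofHom (algebraMap K Kb) := Spec.map_injective (by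
    rw [Spec.map_comp, Spec.map_preimage, Category.assoc, he]
    exact s.2)
  letI : Algebra K R := ψ.hom.toAlgebra
  haveI : Module.Finite K R := hψ
  let a : R →ₐ[K] Kb := { φ.hom with commutes' := fun x => congr($hφ x) }
  let E := IntermediateField.adjoin K (Set.range (a ∘ Module.finBasis K R))
  haveI : FiniteDimensional K E :=
    IntermediateField.finiteDimensional_adjoin fun x _ => Algebra.IsIntegral.isIntegral x
  refine Subgroup.isOpen_mono (fun g hg => ?_) (E.fixingSubgroup_isOpen)
  have hga : (g : Kb ≃ₐ[K] Kb).toAlgHom.toLinearMap.comp a.toLinearMap = a.toLinearMap :=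
    (Module.finBasis K R).ext fun i => (IntermediateField.mem_fixingSubgroup_iff _ _).1 hg _
      (IntermediateField.subset_adjoin K _ ⟨i, rfl⟩)
  refine Subtype.ext ?_
  rw [smul_val, ← cancel_mono e.hom, Category.assoc, ← Spec.map_preimage (s.1 ≫ e.hom), galSpec, ← Spec.map_comp]
  exact congrArg Spec.map (CommRingCat.hom_ext (RingHom.ext fun r => LinearMap.congr_fun hga r))

theorem transitive_of_subsingleton (Y : FEt.Cat (Spec (CommRingCat.of K))) [Subsingleton Y.left]
    (s t : F |>.obj Y) : ∃ g : G, g • s = t := by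
  obtain ⟨R, e, ψ, hψ, he⟩ := exists_hom K Y
  haveI : Subsingleton (PrimeSpectrum R) := (Scheme.homeoOfIso e).toEquiv.subsingleton_congr.1 inferInstance
  have key : ∀ v : F |>.obj Y, ∃ φ : R ⟶ CommRingCat.of Kb,
      Spec.map φ = v.1 ≫ e.hom ∧ ψ ≫ φ = CommRingCat.ofHom (algebraMap K Kb) := fun v => by
    refine ⟨Spec.preimage (v.1 ≫ e.hom), Spec.map_preimage _, Spec.map_injective ?_⟩
    rw [Spec.map_comp, Spec.map_preimage, Category.assoc, he]
    exact v.2
  obtain ⟨φ₁, hs, h1⟩ := key s
  obtain ⟨φ₂, ht, h2⟩ := key t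
  letI : Algebra K R := ψ.hom.toAlgebra
  haveI : Module.Finite K R := hψ
  let a₁ : R →ₐ[K] Kb := { φ₁.hom with commutes' := fun x => congr($h1 x) }
  let a₂ : R →ₐ[K] Kb := { φ₂.hom with commutes' := fun x => congr($h2 x) }
  haveI := (RingHom.ker_isPrime a₁.toRingHom)
  haveI := (RingHom.ker_isPrime a₂.toRingHom)
  have hker : RingHom.ker a₁.toRingHom = RingHom.ker a₂.toRingHom :=
    congrArg PrimeSpectrum.asIdeal (Subsingleton.elim (⟨RingHom.ker a₁.toRingHom, inferInstance⟩ : PrimeSpectrum R)
      ⟨RingHom.ker a₂.toRingHom, inferInstance⟩)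
  haveI : Algebra.IsIntegral K (R ⧸ RingHom.ker a₁.toRingHom) := inferInstance
  letI : Field (R ⧸ RingHom.ker a₁.toRingHom) := (Algebra.IsIntegral.isField_iff_isField
    (algebraMap K (R ⧸ RingHom.ker a₁.toRingHom)).injective).1 (Field.toIsField K) |>.toField
  let i₁ : (R ⧸ RingHom.ker a₁.toRingHom) →ₐ[K] Kb := Ideal.Quotient.liftₐ _ a₁ fun x hx => hx
  let i₂ : (R ⧸ RingHom.ker a₁.toRingHom) →ₐ[K] Kb :=
    Ideal.Quotient.liftₐ _ a₂ fun x hx => (hker ▸ hx : x ∈ RingHom.ker a₂.toRingHom)
  let σ₀ : i₁.fieldRange →ₐ[K] Kb := i₂.comp (AlgEquiv.ofInjectiveField i₁).symm.toAlgHom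
  let σ : Kb ≃ₐ[K] Kb := AlgEquiv.ofBijective (σ₀.liftNormal Kb) (Algebra.IsAlgebraic.algHom_bijective _)
  refine ⟨σ, Subtype.ext ?_⟩
  rw [smul_val, ← cancel_mono e.hom, Category.assoc, ← hs, ← ht, galSpec, ← Spec.map_comp]
  refine congrArg Spec.map (CommRingCat.hom_ext (RingHom.ext fun r => ?_))
  show σ₀.liftNormal Kb (a₁ r) = a₂ r
  refine (σ₀.liftNormal_commutes Kb ⟨i₁ (Ideal.Quotient.mk _ r), ⟨_, rfl⟩⟩).trans ?_
  show i₂ ((AlgEquiv.ofInjectiveField i₁).symm (AlgEquiv.ofInjectiveField i₁ (Ideal.Quotient.mk _ r))) = a₂ r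
  rw [AlgEquiv.symm_apply_apply]
  rfl

theorem galois_action (Y : FEt.Cat (Spec (CommRingCat.of K))) [PreGaloisCategory.IsConnected Y] :
    Subsingleton Y.left := by
  refine ⟨fun x y => ?_⟩
  let g : Y.left ⟶ Spec (CommRingCat.of K) := Y.hom
  haveI : IsFinite g := Y.prop.1
  haveI : Etale g := Y.prop.2
  haveI : JacobsonSpace Y.left := LocallyOfFiniteType.jacobsonSpace g
  haveI : Finite Y.left := Set.finite_univ_iff.1
    ((g.finite_preimage_singleton (IsLocalRing.closedPoint K)).subset
      fun x _ => Subsingleton.elim (α := PrimeSpectrum K) _ _)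
  let U : Y.left.Opens := ⟨{x}, isOpen_discrete _⟩
  haveI : IsClosedImmersion U.ι := IsClosedImmersion.of_isPreimmersion _ (by
    rw [Scheme.Opens.range_ι]; exact isClosed_discrete _)
  let Z : FEt.Cat (Spec (CommRingCat.of K)) := MorphismProperty.Over.mk ⊤ (U.ι ≫ g)
    ⟨inferInstance, inferInstance⟩
  let v : Z ⟶ Y := MorphismProperty.Over.homMk U.ι rfl
  haveI : Mono v := ⟨fun a b hab => by
    ext : 1
    exact (cancel_mono U.ι).1 (congrArg (fun q : _ ⟶ Y => q.left) hab)⟩
  haveI : IsIso v := PreGaloisCategory.IsConnected.noTrivialComponent Z v fun hZ => by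
    let φ : Z ⟶ FEtEq25.empty _ := hZ.to _
    exact isEmptyElim (show ↥(∅ : Scheme.{u}) from φ.left ⟨x, rfl⟩)
  haveI : IsIso U.ι :=
    (MorphismProperty.Over.forget FEt.prop.{u} ⊤ _ ⋙ Over.forget _).map_isIso v
  obtain ⟨z, hz⟩ := (inferInstance : Surjective U.ι).1 y
  rw [← hz]
  exact (Set.eq_of_mem_singleton z.2).symm

instance galoisCategory_spec : GaloisCategory (FEt.Cat (Spec (CommRingCat.of K))) :=
  haveI : ConnectedSpace ↥(Spec (CommRingCat.of K)) := inferInstanceAs (ConnectedSpace (PrimeSpectrum K))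
  { hasFiberFunctor := ⟨F, ⟨FEtEq25.fiberFunctor (geomPt K)⟩⟩ }

instance fiberFunctor_geomPt : PreGaloisCategory.FiberFunctor F :=
  haveI : ConnectedSpace ↥(Spec (CommRingCat.of K)) := inferInstanceAs (ConnectedSpace (PrimeSpectrum K))
  FEtEq25.fiberFunctor (geomPt K)

instance isFundamentalGroup : PreGaloisCategory.IsFundamentalGroup F G where
  naturality g Y Z f x := Subtype.ext (Category.assoc _ _ _)
  transitive_of_isGalois Y _ := by
    haveI := galois_action K Y
    exact ⟨fun s t => transitive_of_subsingleton K Y s t⟩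
  continuous_smul Y := continuousSMul_iff_stabilizer_isOpen.2 (stabilizer_isOpen' K Y)
  non_trivial' g hg := by
    refine eq_of_eqOn_separableClosure K g 1 fun x hx => ?_
    let L := IntermediateField.adjoin K {x}
    haveI : FiniteDimensional K L := IntermediateField.adjoin.finiteDimensional (Algebra.IsIntegral.isIntegral x)
    haveI : Algebra.IsSeparable K L :=
      (IntermediateField.isSeparable_adjoin_simple_iff_isSeparable K Kb).2 hx
    let Y : FEt.Cat (Spec (CommRingCat.of K)) := MorphismProperty.Over.mk ⊤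
      (Spec.map (CommRingCat.ofHom (algebraMap K L))) (isFinite_etale_of_separable K L)
    let s : FEt.fiberObj (geomPt K) Y := ⟨Spec.map (CommRingCat.ofHom (algebraMap L Kb)), by
      show Spec.map _ ≫ Spec.map _ = _
      rw [← Spec.map_comp]; rfl⟩
    have h1 := congrArg Subtype.val (hg Y s)
    have h2 : Spec.map (CommRingCat.ofHom (g : Kb ≃ₐ[K] Kb).toRingEquiv.toRingHom) ≫ Spec.map (CommRingCat.ofHom (algebraMap L Kb)) =
        Spec.map (CommRingCat.ofHom (algebraMap L Kb)) := h1
    rw [← Spec.map_comp] at h2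
    exact congr($(Spec.map_injective h2) ⟨x, IntermediateField.mem_adjoin_simple_self K x⟩)

end Groth.Agent.FEtLimit25
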