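import Groth.Agent.Lib.LimH13.DescendFP
import Groth.Agent.Lib.LimH13.Descend
import Groth.Prelude.Def_FEt

/-!
# Finite étale covers of a limit of schemes come from a stage
-/

set_option autoImplicit false
set_option linter.style.haveILetI false
set_option backward.isDefEq.respectTransparency.types false

universe u

open CategoryTheory CategoryTheory.Limits AlgebraicGeometry

namespace Groth.Agent.FEtLimit25

open Groth.Agent.Descend

variable {I : Type u} [SmallCategory I] [IsCofiltered I] {D : I ⥤ Scheme.{u}} {c : Cone D}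
  [∀ (i j : I) (f : i ⟶ j), IsAffineHom (D.map f)]

theorem exists_model (hc : IsLimit c) [∀ i, CompactSpace (D.obj i)] [∀ i, QuasiSeparatedSpace (D.obj i)]
    {P : Scheme.{u}} (p : P ⟶ c.pt) [IsFinite p] [Etale p] :
    ∃ (i : I) (Pi : Scheme.{u}) (pi : Pi ⟶ D.obj i) (q : P ⟶ Pi), IsFinite pi ∧ Etale pi ∧
      (Surjective p → Surjective pi) ∧ IsPullback q p pi (c.π.app i) := by
  haveI : ∀ {i j : I} (a : i ⟶ j), IsAffineHom (D.map a) :=
    fun a => ‹∀ (i j : I) (f : i ⟶ j), IsAffineHom (D.map f)› _ _ a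
  obtain ⟨i₀⟩ := IsCofiltered.nonempty (C := I)
  haveI := isAffineHom_π_app _ _ hc i₀
  haveI : CompactSpace c.pt := QuasiCompact.compactSpace_of_compactSpace (c.π.app i₀)
  haveI : QuasiSeparatedSpace c.pt := quasiSeparatedSpace_of_quasiSeparated (c.π.app i₀)
  haveI : CompactSpace P := QuasiCompact.compactSpace_of_compactSpace p
  haveI : QuasiSeparatedSpace P := quasiSeparatedSpace_of_quasiSeparated p
  obtain ⟨i, Pi, pi, q, h1, h2, h3, hq⟩ := LimH13.hasModel_of_finitePresentation hc p
  haveI := h1; haveI := h2; haveI := h3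
  haveI : QuasiCompact pi := (quasiCompact_iff_compactSpace pi).2 h2
  haveI : QuasiSeparated pi := (quasiSeparated_iff_quasiSeparatedSpace pi).2 h3
  let F := Over.forget i
  let c' : Cone (F ⋙ D) := c.whisker F
  have hc' : IsLimit c' := (Functor.Initial.isLimitWhiskerEquiv F c).symm hc
  have hw : ∀ k, c'.π.app k ≫ (overT D i).app k = c.π.app i := fun k => c.w k.hom
  obtain ⟨j₁, hj₁⟩ := exists_etale (t := overT D i) (c := c') hc' hw hq
  obtain ⟨j₂, hj₂⟩ := LimH13.exists_isFinite (t := overT D i) (c := c') hc' hw hq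
  have mono : ∀ {k l : Over i} (a : k ⟶ l) (Pr : MorphismProperty Scheme.{u}) [Pr.IsStableUnderBaseChange],
      Pr (pullback.snd pi ((overT D i).app l)) → Pr (pullback.snd pi ((overT D i).app k)) :=
    fun a Pr _ h => MorphismProperty.of_isPullback (pbMap_isPullback (F ⋙ D) (overT D i) pi a) h
  let j := IsCofiltered.min j₁ j₂
  have h4 := mono (IsCofiltered.minToLeft j₁ j₂) @Etale hj₁
  have h5 := mono (IsCofiltered.minToRight j₁ j₂) @IsFinite hj₂
  by_cases hs : Surjective p
  · haveI := hs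
    obtain ⟨j₃, hj₃⟩ := Descend.exists_surjective (t := overT D i) (c := c') hc' hw hq
    let k := IsCofiltered.min j j₃
    obtain ⟨q', -, hq'⟩ := LimH13.isPullback_map_stage k.hom hq
    exact ⟨k.left, _, pullback.snd pi (D.map k.hom), q', mono (IsCofiltered.minToLeft j j₃) @IsFinite h5,
      mono (IsCofiltered.minToLeft j j₃) @Etale h4, fun _ => mono (IsCofiltered.minToRight j j₃) @Surjective hj₃,
      hq'⟩
  · obtain ⟨q', -, hq'⟩ := LimH13.isPullback_map_stage j.hom hq
    exact ⟨j.left, _, pullback.snd pi (D.map j.hom), q', h5, h4, fun h => absurd h hs, hq'⟩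

theorem exists_map_eq (hc : IsLimit c) [∀ i, CompactSpace (D.obj i)] [∀ i, QuasiSeparatedSpace (D.obj i)]
    (i : I) (Vi Wi : FEt.Cat (D.obj i)) (φ ψ : Vi ⟶ Wi)
    (h : (FEt.restrict (c.π.app i)).map φ = (FEt.restrict (c.π.app i)).map ψ) :
    ∃ (j : I) (a : j ⟶ i), (FEt.restrict (D.map a)).map φ = (FEt.restrict (D.map a)).map ψ := by
  haveI : ∀ {i j : I} (a : i ⟶ j), IsAffineHom (D.map a) :=
    fun a => ‹∀ (i j : I) (f : i ⟶ j), IsAffineHom (D.map f)› _ _ a
  let v : Vi.left ⟶ D.obj i := Vi.hom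
  let w : Wi.left ⟶ D.obj i := Wi.hom
  haveI : IsFinite v := Vi.prop.1
  haveI : IsFinite w := Wi.prop.1
  haveI : CompactSpace Vi.left := QuasiCompact.compactSpace_of_compactSpace v
  haveI : QuasiSeparatedSpace Vi.left := quasiSeparatedSpace_of_quasiSeparated v
  have h' : pullback.fst v (c.π.app i) ≫ φ.left = pullback.fst v (c.π.app i) ≫ ψ.left := by
    have := congrArg (fun m => m.left ≫ pullback.fst Wi.hom (c.π.app i)) h
    exact (pullback.lift_fst _ _ _).symm.trans (this.trans (pullback.lift_fst _ _ _))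
  obtain ⟨j, a, ha⟩ := LimH13.exists_fst_comp_eq hc i v w _ _ (IsPullback.of_hasPullback v (c.π.app i))
    φ.left ψ.left (Over.w φ.hom) (Over.w ψ.hom) h'
  refine ⟨j, a, MorphismProperty.Over.Hom.ext ?_⟩
  simp only [FEt.restrict, MorphismProperty.Over.pullback_map_left]
  apply pullback.hom_ext
  · rw [pullback.lift_fst, pullback.lift_fst]
    exact ha
  · rw [pullback.lift_snd, pullback.lift_snd]

end Groth.Agent.FEtLimit25
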