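import Groth.Agent.Lib.Disc25.NormalScheme
import Groth.Agent.Lib.Branch14.Domain
import Groth.Agent.Lib.AlgSpDecent.MonoPoint
import Groth.Agent.S3694

/-!
# Sections of étale separated schemes over normal integral schemes from the generic point
-/

set_option autoImplicit false
set_option linter.style.haveILetI false
set_option backward.isDefEq.respectTransparency.types false

universe u

open CategoryTheory CategoryTheory.Limits AlgebraicGeometry TopologicalSpace

namespace Groth.Agent.FEtLimit25

variable {X Z : Scheme.{u}}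

theorem isDomain_stalk_of_etale (g : Z ⟶ X) [Etale g] (hX : Pi1.IsNormalScheme X) (z : Z) :
    IsDomain (Z.presheaf.stalk z) := by
  obtain ⟨U, hU, hzU, -⟩ :=
    exists_isAffineOpen_mem_and_subset (x := g z) (U := ⊤) (Opens.mem_top _)
  obtain ⟨V, hV, hzV, hVU⟩ :=
    exists_isAffineOpen_mem_and_subset (x := z) (U := g ⁻¹ᵁ U) hzU
  let f := g.appLE U V hVU
  have het : f.hom.Etale := HasRingHomProperty.appLE @Etale g ‹_› ⟨U, hU⟩ ⟨V, hV⟩ hVU
  algebraize [f.hom]
  let q := (hV.primeIdealOf ⟨z, hzV⟩).asIdeal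
  have : IsDomain (Localization.AtPrime q) := by
    refine Branch14.isDomain_localization_of_etale (R := Γ(X, U)) (fun p _ => ?_) q
    let x : X := hU.fromSpec ⟨p, inferInstance⟩
    have hxU : x ∈ U := (hU.range_fromSpec ▸ (Set.mem_range_self _ : x ∈ Set.range hU.fromSpec) : x ∈ (U : Set X))
    have hp : (hU.primeIdealOf ⟨x, hxU⟩).asIdeal = p := by
      have := hU.fromSpec.isOpenEmbedding.injective (hU.fromSpec_primeIdealOf ⟨x, hxU⟩)
      exact congrArg PrimeSpectrum.asIdeal this
    let := TopCat.Presheaf.algebra_section_stalk X.presheaf (⟨x, hxU⟩ : U)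
    have hlocX : IsLocalization.AtPrime (X.presheaf.stalk x) p := by
      have h := hU.isLocalization_stalk ⟨x, hxU⟩
      unfold IsLocalization.AtPrime at h ⊢
      convert h using 2
      rw [hp]
    let eX : X.presheaf.stalk x ≃+* Localization.AtPrime p :=
      (IsLocalization.algEquiv p.primeCompl _ _).toRingEquiv
    obtain ⟨hd, hn⟩ := hX x
    exact ⟨eX.symm.toMulEquiv.isDomain, IsIntegrallyClosed.of_equiv eX⟩
  let := TopCat.Presheaf.algebra_section_stalk Z.presheaf (⟨z, hzV⟩ : V)
  have hlocZ : IsLocalization.AtPrime (Z.presheaf.stalk z) q := hV.isLocalization_stalk ⟨z, hzV⟩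
  exact (IsLocalization.algEquiv q.primeCompl (Z.presheaf.stalk z) (Localization.AtPrime q)).toRingEquiv.toMulEquiv.isDomain

section

variable [IsIntegral X] (hZ : ∀ z : Z, IsDomain (Z.presheaf.stalk z)) (g : Z ⟶ X)

/-- Over an integral base, sets saturated under maximal generalization are clopen, quasi-finite case. -/
theorem isClopen_preimage_gen [Flat g] [LocallyQuasiFinite g] (A : Set Z) :
    IsClopen {z | Disc25.gen hZ z ∈ A} := by
  have key : ∀ A : Set Z, IsOpen {z | Disc25.gen hZ z ∈ A} := by
    intro A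
    rw [isOpen_iff_forall_mem_open]
    intro z hz
    obtain ⟨U, hU, hzU, -⟩ := exists_isAffineOpen_mem_and_subset (x := g z) (U := ⊤) (Opens.mem_top _)
    obtain ⟨V, hV, hzV, hVU⟩ := exists_isAffineOpen_mem_and_subset (x := z) (U := g ⁻¹ᵁ U) hzU
    haveI : IsAffine V := hV
    haveI : IsAffine U := hU
    have hfin : {y : Z | y ∈ V ∧ g y = genericPoint X ∧ y ∉ A}.Finite := by
      by_cases hη : genericPoint X ∈ U
      · refine (((g.resLE U V hVU).finite_preimage_singleton ⟨genericPoint X, hη⟩).image V.ι).subset ?_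
        rintro y ⟨hy, hgy, -⟩
        refine ⟨⟨y, hy⟩, U.ι.isOpenEmbedding.injective ?_, rfl⟩
        show ((g.resLE U V hVU) ≫ U.ι) ⟨y, hy⟩ = genericPoint X
        rw [Scheme.Hom.resLE_comp_ι]
        exact hgy
      · refine Set.Finite.subset Set.finite_empty ?_
        rintro y ⟨hy, hgy, -⟩
        exact (hη (hgy ▸ hVU hy)).elim
    refine ⟨(V : Set Z) ∩ (⋃ a ∈ {y : Z | y ∈ V ∧ g y = genericPoint X ∧ y ∉ A}, closure {a})ᶜ,
      fun y hy => ?_, V.isOpen.inter (hfin.isClosed_biUnion fun _ _ => isClosed_closure).isOpen_compl,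
      hzV, ?_⟩
    · by_contra h
      refine hy.2 (Set.mem_biUnion (x := Disc25.gen hZ y) ⟨?_, Disc25.map_gen hZ g y, h⟩
        (Disc25.gen_specializes hZ y).mem_closure)
      exact (Disc25.gen_specializes hZ y).mem_open V.isOpen hy.1
    · simp only [Set.mem_compl_iff, Set.mem_iUnion, exists_prop, not_exists, not_and]
      rintro a ⟨-, ha, haA⟩ hza
      rw [← specializes_iff_mem_closure] at hza
      have h1 : Disc25.gen hZ a = Disc25.gen hZ z := Disc25.gen_eq_of_specializes hZ hza
      have h2 : Disc25.gen hZ a = a := by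
        obtain ⟨n, hn⟩ : ∃ n, n = Disc25.gen hZ a := ⟨_, rfl⟩
        by_contra hne
        exact hne ((g.isDiscrete_preimage_singleton (genericPoint X)).eq_of_specializes
          (Disc25.gen_specializes hZ a) (Disc25.map_gen hZ g a) ha)
      exact haA (h2 ▸ h1 ▸ hz)
  exact ⟨isOpen_compl_iff.1 (key Aᶜ), key A⟩

end

/-- An étale separated scheme over a normal integral scheme which is locally on itself ind-finite has
all rational points of the generic fibre coming from sections. -/
theorem exists_section [IsIntegral X] (hX : Pi1.IsNormalScheme X) (g : Z ⟶ X) [Etale g] [IsSeparated g] [Surjective g]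
    (hfin : ∀ {W : Scheme.{u}} (w : W ⟶ X), (∃ s : W ⟶ Z, s ≫ g = w) → ∀ z : ↥(pullback g w),
      ∃ D : (pullback g w).Opens, z ∈ D ∧ IsClosed (D : Set ↥(pullback g w)) ∧ IsFinite (D.ι ≫ pullback.snd g w))
    (x : Spec (X.residueField (genericPoint X)) ⟶ Z) (hx : x ≫ g = X.fromSpecResidueField (genericPoint X)) :
    ∃ σ : X ⟶ Z, σ ≫ g = 𝟙 X ∧ X.fromSpecResidueField (genericPoint X) ≫ σ = x := by
  have hZ := isDomain_stalk_of_etale g hX
  haveI := AlgSpDecent.locallyQuasiFinite_of_etale g
  let pt : ↥(Spec (X.residueField (genericPoint X))) := IsLocalRing.closedPoint _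
  haveI : Subsingleton ↥(Spec (X.residueField (genericPoint X))) :=
    inferInstanceAs (Subsingleton (PrimeSpectrum _))
  have hgx : g (x pt) = genericPoint X := by
    rw [← Scheme.Hom.comp_apply, hx]
    exact Scheme.fromSpecResidueField_apply _ _
  have hgen : Disc25.gen hZ (x pt) = x pt :=
    (g.isDiscrete_preimage_singleton (genericPoint X)).eq_of_specializes
      (Disc25.gen_specializes hZ _) (Disc25.map_gen hZ g _) hgx
  have hC := isClopen_preimage_gen hZ g {x pt}
  let C : Z.Opens := ⟨_, hC.2⟩
  have hxC : x pt ∈ C := hgen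
  have huniq : ∀ c : ↥C.toScheme, g c.1 = genericPoint X → c.1 = x pt := fun c hc => by
    have h := (g.isDiscrete_preimage_singleton (genericPoint X)).eq_of_specializes
      (Disc25.gen_specializes hZ _) (Disc25.map_gen hZ g c.1) hc
    rw [← h]; exact c.2
  let gC : C.toScheme ⟶ X := C.ι ≫ g
  -- surjectivity
  haveI : Surjective gC := by
    refine ⟨fun s => ?_⟩
    obtain ⟨e, he⟩ : ∃ e : Z, g e = s := by
      have := g.surjective
      exact this s
    let A := {z : Z | Disc25.gen hZ z ∈ ({Disc25.gen hZ e} : Set Z)}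
    let W : Z.Opens := ⟨A, (isClopen_preimage_gen hZ g _).2⟩
    have heW : e ∈ W := (rfl : Disc25.gen hZ e = Disc25.gen hZ e)
    let w : W.toScheme ⟶ X := W.ι ≫ g
    haveI : PreconnectedSpace W.toScheme := by
      haveI : PreirreducibleSpace W.toScheme := by
        let γ : W.toScheme := ⟨Disc25.gen hZ e, Disc25.gen_eq_of_specializes hZ (Disc25.gen_specializes hZ e)⟩
        refine ⟨?_⟩
        rw [← Set.eq_univ_of_forall (s := closure {γ}) fun y => ?_]
        · exact isPreirreducible_singleton.closure
        · rw [← specializes_iff_mem_closure]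
          refine W.ι.isEmbedding.isInducing.specializes_iff.1 ?_
          have hy : Disc25.gen hZ y.1 = Disc25.gen hZ e := y.2
          show Disc25.gen hZ e ⤳ y.1
          exact hy ▸ Disc25.gen_specializes hZ y.1
      infer_instance
    obtain ⟨z₁, hz₁, -⟩ := Scheme.Pullback.exists_preimage_pullback (f := g) (g := w) (x pt)
      ⟨Disc25.gen hZ e, Disc25.gen_eq_of_specializes hZ (Disc25.gen_specializes hZ e)⟩
      (hgx.trans (Disc25.map_gen hZ g e).symm)
    obtain ⟨D, hzD, hDc, hDf⟩ := hfin w ⟨W.ι, rfl⟩ z₁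
    haveI := hDf
    haveI : Etale (D.ι ≫ pullback.snd g w) := inferInstance
    let T : Set D.toScheme := (D.ι ≫ pullback.fst g w) ⁻¹' C
    have hT : IsClopen T := hC.preimage (D.ι ≫ pullback.fst g w).continuous
    have him : IsClopen ((D.ι ≫ pullback.snd g w) '' T) :=
      ⟨(D.ι ≫ pullback.snd g w).isClosedMap _ hT.1, (D.ι ≫ pullback.snd g w).isOpenMap _ hT.2⟩
    have hz₁T : (⟨z₁, hzD⟩ : D.toScheme) ∈ T := by
      show pullback.fst g w z₁ ∈ C
      rw [hz₁]; exact hxC
    obtain ⟨d, hd, hde⟩ := Set.eq_univ_iff_forall.1 (him.eq_univ ⟨_, _, hz₁T, rfl⟩) ⟨e, heW⟩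
    refine ⟨⟨_, hd⟩, ?_⟩
    show g ((D.ι ≫ pullback.fst g w) d) = s
    rw [← he, ← Scheme.Hom.comp_apply, Category.assoc, pullback.condition, ← Category.assoc, Scheme.Hom.comp_apply, hde]
    rfl
  -- injectivity
  let ι := X.fromSpecResidueField (genericPoint X)
  have hxr : Set.range x ⊆ Set.range C.ι := by
    rintro _ ⟨p, rfl⟩
    rw [Scheme.Opens.range_ι, Subsingleton.elim p pt]
    exact hxC
  let x' := IsOpenImmersion.lift C.ι x hxr
  have hx' : x' ≫ gC = ι := by
    rw [← Category.assoc, IsOpenImmersion.lift_fac]; exact hx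
  haveI : UniversallyInjective gC := by
    rw [UniversallyInjective.iff_diagonal]
    refine ⟨fun p => ?_⟩
    let P := pullback gC gC
    let π : P ⟶ X := pullback.fst gC gC ≫ gC
    haveI : Flat π := inferInstance
    obtain ⟨q, hqp, hq⟩ := Flat.generalizingMap π (genericPoint_specializes (π p))
    suffices q ∈ Set.range (pullback.diagonal gC) from
      hqp.mem_closed (pullback.diagonal gC).isClosedEmbedding.isClosed_range this
    let F := pullback gC ι
    let v : F ⟶ Spec (X.residueField (genericPoint X)) := pullback.snd gC ι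
    let t : Spec (X.residueField (genericPoint X)) ⟶ F := pullback.lift x' (𝟙 _) (by rw [hx', Category.id_comp])
    haveI : Etale v := MorphismProperty.pullback_snd _ _ inferInstance
    haveI : Etale t := by
      haveI : Etale (t ≫ v) := by
        rw [show t ≫ v = 𝟙 _ from pullback.lift_snd _ _ _]; infer_instance
      exact Etale.of_comp t v
    haveI : Mono t := mono_of_mono_fac (pullback.lift_snd _ _ _ : t ≫ v = 𝟙 _)
    haveI : IsOpenImmersion t := IsOpenImmersion.of_flat_of_mono t
    haveI : Subsingleton F := ⟨fun a b => by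
      have key : ∀ a : F, pullback.fst gC ι a = ⟨x pt, hxC⟩ := fun a => by
        refine Subtype.ext (huniq _ ?_)
        show gC (pullback.fst gC ι a) = _
        rw [← Scheme.Hom.comp_apply, pullback.condition, Scheme.Hom.comp_apply]
        exact Scheme.fromSpecResidueField_apply _ _
      exact (pullback.fst gC ι).isEmbedding.injective ((key a).trans (key b).symm)⟩
    haveI : Surjective t := ⟨fun a => ⟨pt, Subsingleton.elim _ _⟩⟩
    haveI : IsIso t := (isIso_iff_isOpenImmersion_and_surjective _).2 ⟨inferInstance, inferInstance⟩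
    haveI : IsIso v := by
      have : v = inv t := IsIso.eq_inv_of_hom_inv_id (pullback.lift_snd _ _ _)
      rw [this]; infer_instance
    let a := P.fromSpecResidueField q
    have hr : Set.range (a ≫ π) ⊆ {genericPoint X} := by
      rintro _ ⟨b, rfl⟩
      show π (a b) = genericPoint X
      rw [Scheme.fromSpecResidueField_apply]; exact hq
    obtain ⟨l, hl⟩ : ∃ l, l ≫ ι = a ≫ π := by
      refine ⟨Spec.map ((X.residueFieldCongr hq.symm).hom ≫ π.residueFieldMap q), ?_⟩
      rw [Spec.map_comp, Category.assoc, Scheme.residueFieldCongr_fromSpecResidueField,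
        Scheme.Hom.SpecMap_residueFieldMap_fromSpecResidueField]
    let c₁ : _ ⟶ F := pullback.lift (a ≫ pullback.fst gC gC) l (by rw [hl, Category.assoc])
    let c₂ : _ ⟶ F := pullback.lift (a ≫ pullback.snd gC gC) l (by rw [hl, Category.assoc, ← pullback.condition])
    have hc : c₁ = c₂ := by
      rw [← cancel_mono v]
      exact (pullback.lift_snd _ _ _).trans (pullback.lift_snd _ _ _).symm
    have h12 : a ≫ pullback.fst gC gC = a ≫ pullback.snd gC gC := by
      exact (pullback.lift_fst _ _ _).symm.trans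
        ((congrArg (· ≫ pullback.fst gC ι) hc).trans (pullback.lift_fst _ _ _))
    have hfac : a = (a ≫ pullback.fst gC gC) ≫ pullback.diagonal gC := by
      apply pullback.hom_ext
      · simp
      · simp [← h12]
    refine ⟨(a ≫ pullback.fst gC gC) (IsLocalRing.closedPoint _), ?_⟩
    rw [← Scheme.Hom.comp_apply, ← hfac]
    exact Scheme.fromSpecResidueField_apply _ _
  haveI : IsOpenImmersion gC := Groth.Agent.S3694.result gC
  haveI : IsIso gC := (isIso_iff_isOpenImmersion_and_surjective _).2 ⟨inferInstance, inferInstance⟩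
  refine ⟨inv gC ≫ C.ι, by rw [Category.assoc, IsIso.inv_hom_id], ?_⟩
  rw [← IsOpenImmersion.lift_fac C.ι x hxr, ← Category.assoc]
  congr 1
  rw [← cancel_mono gC, Category.assoc, IsIso.inv_hom_id, Category.comp_id]
  exact hx'.symm

end Groth.Agent.FEtLimit25
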