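import Groth.Agent.Lib.FEtLimit25.EtaleSection
import Groth.Agent.Lib.TorsorSch25.Transfer
import Groth.Agent.Lib.FpqcDesc.Basic
import Groth.Agent.Lib.AbRigid.Maximal
import Groth.Prelude.Def_ActBC
import Mathlib.AlgebraicGeometry.Morphisms.QuasiFinite

/-!
# Torsors under étale group schemes over a field over normal bases
-/

set_option autoImplicit false
set_option linter.style.haveILetI false
set_option backward.isDefEq.respectTransparency.types false

universe u

open CategoryTheory CategoryTheory.Limits AlgebraicGeometry MonoidalCategory CartesianMonoidalCategory MonObj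

namespace Groth.Agent.FEtLimit25

variable {k : Type u} [Field k] {G : Over (Spec (CommRingCat.of k))} [GrpObj G] [Etale G.hom]
  {S : Scheme.{u}} {s : S ⟶ Spec (CommRingCat.of k)} (E : NonAbH1.TorsorSch (Red.bc s G) Scheme.fppfPrecoverage)

include E

theorem isTorsor_fpqc : NonAbH1.IsTorsorFor Scheme.fpqcPrecoverage E.act := by
  obtain ⟨h1, R, hR, h2⟩ := E.isTorsor
  exact ⟨h1, R, Scheme.fppfPrecoverage_le_fpqcPrecoverage _ hR, h2⟩

theorem etale_torsor : Etale E.X.hom := by
  have hG : Etale (Red.bc s G).hom := MorphismProperty.pullback_snd _ _ inferInstance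
  exact TorsorSch25.prop_of_isTorsorFor @Etale (isTorsor_fpqc E) hG

theorem isSeparated_torsor : IsSeparated E.X.hom := by
  haveI := AbRigid.isSeparated_of_grpObj G
  have hG : IsSeparated (Red.bc s G).hom := MorphismProperty.pullback_snd _ _ inferInstance
  haveI := FpqcDesc.descendsAlong_isSeparated.{u}
  exact TorsorSch25.prop_of_isTorsorFor @IsSeparated (isTorsor_fpqc E) hG

theorem surjective_torsor : Surjective E.X.hom := by
  obtain ⟨R, hR, hsec⟩ := (isTorsor_fpqc E).2
  refine ⟨fun x => ?_⟩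
  obtain ⟨U, hU, hxU, -⟩ := exists_isAffineOpen_mem_and_subset (x := x) (U := ⊤) (TopologicalSpace.Opens.mem_top _)
  obtain ⟨W, w, _, _, _, _, hsecW⟩ := TorsorSch25.exists_affine_test hR hU
  obtain ⟨σ, hσ⟩ := hsecW E.X hsec
  obtain ⟨z, hz⟩ := w.surjective ⟨x, hxU⟩
  refine ⟨σ z, ?_⟩
  rw [← Scheme.Hom.comp_apply, hσ, Scheme.Hom.comp_apply, hz]
  rfl

theorem locally_finite {W : Scheme.{u}} (w : W ⟶ S) (hw : ∃ σ : W ⟶ E.X.left, σ ≫ E.X.hom = w)
    (z : ↥(pullback E.X.hom w)) :
    ∃ D : (pullback E.X.hom w).Opens, z ∈ D ∧ IsClosed (D : Set ↥(pullback E.X.hom w)) ∧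
      IsFinite (D.ι ≫ pullback.snd E.X.hom w) := by
  obtain ⟨x⟩ := TorsorSch25.exists_point_bc (X := E.X) w hw
  obtain ⟨e, -⟩ := TorsorSch25.exists_equivIso (NonAbH1.isPseudoTorsorSch_bc w E.isTorsor.1) x
  let φ : pullback (pullback.snd G.hom s) w ⟶ pullback E.X.hom w := e.iso.hom.left
  have hφ : φ ≫ pullback.snd E.X.hom w = pullback.snd (pullback.snd G.hom s) w := Over.w e.iso.hom
  haveI : IsIso φ := inferInstanceAs (IsIso ((Over.forget W).map e.iso.hom))
  let π : pullback E.X.hom w ⟶ G.left := inv φ ≫ pullback.fst (pullback.snd G.hom s) w ≫ pullback.fst G.hom s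
  have sq : IsPullback π (pullback.snd E.X.hom w) G.hom (w ≫ s) := by
    refine IsPullback.of_iso (IsPullback.paste_horiz (IsPullback.of_hasPullback (pullback.snd G.hom s) w)
      (IsPullback.of_hasPullback G.hom s)) (asIso φ) (Iso.refl _) (Iso.refl _) (Iso.refl _) ?_ ?_ (by simp) (by simp)
    · simp [π]
    · simp [hφ]
  haveI := AbRigid.isSeparated_of_grpObj G
  haveI := AlgSpDecent.locallyQuasiFinite_of_etale G.hom
  haveI : DiscreteTopology G.left := by
    have h := G.hom.isDiscrete_preimage_singleton (IsLocalRing.closedPoint k)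
    have huniv : G.hom ⁻¹' {IsLocalRing.closedPoint k} = Set.univ :=
      Set.eq_univ_of_forall fun _ => Subsingleton.elim (α := PrimeSpectrum k) _ _
    exact isDiscrete_univ_iff.1 (huniv ▸ h : _root_.IsDiscrete (Set.univ : Set G.left))
  let T : G.left.Opens := ⟨{π z}, isOpen_discrete _⟩
  haveI : CompactSpace T.toScheme := isCompact_iff_compactSpace.1 (isCompact_singleton (x := π z))
  haveI : QuasiCompact (T.ι ≫ G.hom) := (quasiCompact_iff_compactSpace _).2 ‹_›
  haveI : IsFinite (T.ι ≫ G.hom) := IsFinite.of_locallyQuasiFinite _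
  refine ⟨π ⁻¹ᵁ T, rfl, (isClosed_discrete ({π z} : Set G.left)).preimage π.continuous, ?_⟩
  have sq2 := ((isPullback_morphismRestrict π T).paste_vert sq)
  exact MorphismProperty.of_isPullback sq2 ‹IsFinite (T.ι ≫ G.hom)›

/-- Rational points of a torsor over the generic point extend to sections. -/
theorem exists_torsor_section [IsIntegral S] (hS : Pi1.IsNormalScheme S)
    (x : Spec (S.residueField (genericPoint S)) ⟶ E.X.left)
    (hx : x ≫ E.X.hom = S.fromSpecResidueField (genericPoint S)) :
    ∃ σ : S ⟶ E.X.left, σ ≫ E.X.hom = 𝟙 S ∧ S.fromSpecResidueField (genericPoint S) ≫ σ = x := by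
  haveI := etale_torsor E
  haveI := isSeparated_torsor E
  haveI := surjective_torsor E
  exact exists_section hS E.X.hom (fun w hw z => locally_finite E w hw z) x hx

end Groth.Agent.FEtLimit25
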